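import Groth.Agent.TriCat.AcyclicObj
import Groth.Agent.H9Misc.FinDimDerived
import Mathlib.Algebra.Homology.DerivedCategory.KInjective

/-! Left exact functors send quasi-isomorphisms of bounded below acyclic complexes to quasi-isomorphisms. -/

set_option autoImplicit false

universe w w' v v' u u'

open CategoryTheory CategoryTheory.Limits CategoryTheory.Pretriangulated

namespace Groth.Agent.TopDesc98

open Groth.Agent.TriCat

section Cone

variable {A : Type u} [Category.{v} A] [Abelian A]

lemma acyclic_cone_iff {K L : CochainComplex A ℤ} (φ : K ⟶ L) :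
    (CochainComplex.mappingCone φ).Acyclic ↔ QuasiIso φ := by
  let := HasDerivedCategory.standard A
  rw [← H9Misc.FinDimDerived.isZero_Q_obj_iff, ← DerivedCategory.isIso_Q_map_iff_quasiIso]
  exact Triangle.isZero₃_iff_isIso₁ _ (DerivedCategory.mappingCone_triangle_distinguished φ)

end Cone

variable {A : Type u} [Category.{v} A] [Abelian A] [EnoughInjectives A]
  {B : Type u'} [Category.{v'} B] [Abelian B] (F : A ⥤ B) [F.Additive] [PreservesFiniteLimits F]

/-- Left exact functors send quasi-isomorphisms of bounded below acyclic complexes to quasi-isomorphisms. -/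
theorem quasiIso_map_of_acyclic {K L : CochainComplex A ℤ} (φ : K ⟶ L) [QuasiIso φ] (a : ℤ)
    [K.IsStrictlyGE a] [L.IsStrictlyGE a] (hK : ∀ n, IsRightAcyclic F (K.X n))
    (hL : ∀ n, IsRightAcyclic F (L.X n)) :
    QuasiIso ((F.mapHomologicalComplex (ComplexShape.up ℤ)).map φ) := by
  let M := CochainComplex.mappingCone φ
  have hM : ∀ n, M.ExactAt n := (acyclic_cone_iff φ).2 inferInstance
  have hX : ∀ n, ∃ (_ : IsZero (K.X (n + 1)) ∧ IsZero (L.X n) → IsZero (M.X n)),
      IsRightAcyclic F (M.X n) := fun n => by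
    let e : M.X n ≅ K.X (n + 1) ⊞ L.X n := HomologicalComplex.homotopyCofiber.XIsoBiprod φ n (n + 1) rfl
    refine ⟨fun h => ?_, fun i hi => ?_⟩
    · exact (((biprod_isZero_iff _ _).2 h)).of_iso e
    · haveI : PreservesBinaryBiproducts (F.rightDerived i) := preservesBinaryBiproducts_of_preservesBiproducts _
      exact IsZero.of_iso ((biprod_isZero_iff _ _).2 ⟨hK _ i hi, hL _ i hi⟩)
        ((F.rightDerived i).mapIso e ≪≫ (F.rightDerived i).mapBiprod _ _)
  haveI : M.IsStrictlyGE (a - 1) := by
    rw [CochainComplex.isStrictlyGE_iff]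
    intro n hn
    exact (hX n).1 ⟨K.isZero_of_isStrictlyGE a _ (by omega), L.isZero_of_isStrictlyGE a _ (by omega)⟩
  have h : ∀ n, ((F.mapHomologicalComplex (ComplexShape.up ℤ)).obj M).ExactAt n := fun n =>
    acyclic_map_of_adapted isAdapted_isRightAcyclic M (a - 1) hM (fun n => (hX n).2) n
  exact (acyclic_cone_iff _).1 fun n =>
    (h n).of_iso (CochainComplex.mappingCone.mapHomologicalComplexIso φ F)

/-- Acyclic resolutions compute right derived functors. -/
theorem nonempty_rightDerived_iso_of_resolution (X : A) (G : CochainComplex A ℤ) [G.IsStrictlyGE 0]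
    (ι : (CochainComplex.singleFunctor A 0).obj X ⟶ G) [QuasiIso ι]
    (hG : ∀ n, IsRightAcyclic F (G.X n)) (q : ℕ) :
    Nonempty (((F.mapHomologicalComplex (ComplexShape.up ℤ)).obj G).homology (q : ℤ) ≅
      (F.rightDerived q).obj X) := by
  let := HasDerivedCategory.standard A
  let R := injectiveResolution X
  haveI : ∀ n, Injective (R.cochainComplex.X n) := fun n => inferInstance
  haveI : R.cochainComplex.IsKInjective := CochainComplex.isKInjective_of_injective _ 0
  obtain ⟨g, hg⟩ := (CochainComplex.IsKInjective.Qh_map_bijective ((HomotopyCategory.quotient _ _).obj G)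
    R.cochainComplex).2 ((DerivedCategory.quotientCompQhIso A).hom.app G ≫ inv (DerivedCategory.Q.map ι) ≫
      DerivedCategory.Q.map R.ι' ≫ (DerivedCategory.quotientCompQhIso A).inv.app R.cochainComplex)
  obtain ⟨φ, rfl⟩ := (HomotopyCategory.quotient _ _).map_surjective g
  haveI : QuasiIso φ := by
    rw [← DerivedCategory.isIso_Q_map_iff_quasiIso]
    haveI : IsIso ((HomotopyCategory.quotient A (ComplexShape.up ℤ) ⋙ DerivedCategory.Qh).map φ) := by
      show IsIso (DerivedCategory.Qh.map ((HomotopyCategory.quotient _ _).map φ))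
      rw [hg]
      infer_instance
    exact (NatIso.isIso_map_iff (DerivedCategory.quotientCompQhIso A) φ).1 this
  haveI := quasiIso_map_of_acyclic F φ 0 hG (fun n => isRightAcyclic_of_injective _)
  exact ⟨isoOfQuasiIsoAt ((F.mapHomologicalComplex (ComplexShape.up ℤ)).map φ) (q : ℤ) ≪≫
    TriCat.homologyResIso F R q ≪≫ (R.isoRightDerivedObj F q).symm⟩

end Groth.Agent.TopDesc98
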