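import Groth.Agent.TowerLib.LimHomology
import Mathlib.Algebra.Homology.QuasiIso

/-!
# Quasi-isomorphisms of complexes of abelian groups on elements
-/

set_option autoImplicit false
set_option linter.style.haveILetI false

universe u

open CategoryTheory CategoryTheory.Limits

namespace Groth.Agent.TopDesc98

open Groth.Agent.TowerLib

variable {K L : CochainComplex AddCommGrpCat.{u} ℤ} (φ : K ⟶ L) [QuasiIso φ]

theorem exists_lift_of_quasiIso (q₀ q q₁ : ℤ) (h₀ : q₀ + 1 = q) (h₁ : q + 1 = q₁) (b : L.X q)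
    (hb : (L.d q q₁).hom b = 0) :
    ∃ a : K.X q, (K.d q q₁).hom a = 0 ∧ ∃ b' : L.X q₀, b = (φ.f q).hom a + (L.d q₀ q).hom b' := by
  obtain rfl : q₀ = q - 1 := by omega
  obtain ⟨w, hw⟩ := exists_cycle L q b q₁ h₁ hb
  have hiso : IsIso (HomologicalComplex.homologyMap φ q) := inferInstance
  obtain ⟨h, hh⟩ := ((ConcreteCategory.isIso_iff_bijective _).1 hiso).2 (L.homologyπ q w)
  obtain ⟨z, rfl⟩ := exists_cycle_rep K q h
  have e : L.homologyπ q (w - HomologicalComplex.cyclesMap φ q z) = 0 := by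
    rw [map_sub, sub_eq_zero, ← hh]
    exact ConcreteCategory.congr_hom (HomologicalComplex.homologyπ_naturality φ q) z
  obtain ⟨b', hb'⟩ := exists_boundary L q _ e
  refine ⟨K.iCycles q z, ConcreteCategory.congr_hom (K.iCycles_d q q₁) z, b', ?_⟩
  have e' : (L.d (q - 1) q).hom b' = L.iCycles q (w - HomologicalComplex.cyclesMap φ q z) := by
    rw [← hb']
    exact (ConcreteCategory.congr_hom (L.toCycles_i (q - 1) q) b').symm
  rw [e', map_sub, hw]
  have e'' : L.iCycles q (HomologicalComplex.cyclesMap φ q z) = (φ.f q).hom (K.iCycles q z) :=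
    ConcreteCategory.congr_hom (HomologicalComplex.cyclesMap_i φ q) z
  rw [e'', add_sub_cancel]

theorem exists_bound_of_quasiIso (q₀ q q₁ : ℤ) (h₀ : q₀ + 1 = q) (h₁ : q + 1 = q₁) (a : K.X q)
    (ha : (K.d q q₁).hom a = 0) (b : L.X q₀) (hb : (φ.f q).hom a = (L.d q₀ q).hom b) :
    ∃ a' : K.X q₀, (K.d q₀ q).hom a' = a := by
  obtain rfl : q₀ = q - 1 := by omega
  obtain ⟨w, hw⟩ := exists_cycle K q a q₁ h₁ ha
  have h2 : HomologicalComplex.cyclesMap φ q w = L.toCycles (q - 1) q b := by
    refine iCycles_injective L q ?_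
    refine (ConcreteCategory.congr_hom (HomologicalComplex.cyclesMap_i φ q) w).trans ?_
    refine ((congrArg (φ.f q).hom hw).trans hb).trans ?_
    exact (ConcreteCategory.congr_hom (L.toCycles_i (q - 1) q) b).symm
  have h3 : K.homologyπ q w = 0 := by
    have hiso : IsIso (HomologicalComplex.homologyMap φ q) := inferInstance
    refine ((ConcreteCategory.isIso_iff_bijective _).1 hiso).1 ?_
    refine (ConcreteCategory.congr_hom (HomologicalComplex.homologyπ_naturality φ q) w).trans ?_
    refine ((congrArg _ h2).trans (homologyπ_toCycles L q (q - 1) b)).trans ?_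
    exact (map_zero (HomologicalComplex.homologyMap φ q).hom).symm
  obtain ⟨a', ha'⟩ := exists_boundary K q w h3
  refine ⟨a', ?_⟩
  rw [← hw, ← ha']
  exact (ConcreteCategory.congr_hom (K.toCycles_i (q - 1) q) a').symm

end Groth.Agent.TopDesc98
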