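import Groth.Agent.TopDesc98.Acyc.Basic
import Groth.Agent.BigSiteLib.FppfDesc.LocExact
import Groth.Agent.CTopNbd.Colim

/-!
# Flasque resolutions on a space compute cohomology
-/

set_option autoImplicit false
set_option linter.style.haveILetI false

universe u v w

open CategoryTheory CategoryTheory.Limits Opposite TopologicalSpace
open scoped ZeroObject

namespace Groth.Agent.TopDesc98

open Groth.Agent.TriCat

/-- An augmented complex which is exact gives a quasi-isomorphism from a single complex. -/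
theorem quasiIso_fromSingle {C : Type u} [Category.{v} C] [Abelian C] (F : C) (G : CochainComplex C ℤ)
    [G.IsStrictlyGE 0] (ε : F ⟶ G.X 0) (hε : ε ≫ G.d 0 1 = 0) (hmono : Mono ε)
    (h0 : (ShortComplex.mk ε (G.d 0 1) hε).Exact) (hn : ∀ n : ℤ, 0 < n → G.ExactAt n) :
    QuasiIso (HomologicalComplex.mkHomFromSingle ε (fun k hk => by
      obtain rfl : 0 + 1 = k := hk
      exact hε) : (CochainComplex.singleFunctor C 0).obj F ⟶ G) := by
  refine ⟨fun i => ?_⟩
  by_cases hi : i = 0
  · subst hi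
    rw [quasiIsoAt_iff' _ (-1) 0 1 (by simp) (by simp)]
    refine (ShortComplex.quasiIso_iff_of_zeros _ rfl rfl
      ((G.isZero_of_isStrictlyGE 0 (-1) (by omega)).eq_of_src _ _)).2 ?_
    let e : ((HomologicalComplex.single C (ComplexShape.up ℤ) 0).obj F).X 0 ≅ F :=
      HomologicalComplex.singleObjXSelf (ComplexShape.up ℤ) 0 F
    refine ⟨?_, ?_⟩
    · refine (ShortComplex.exact_iff_of_iso (S₂ := ShortComplex.mk ε (G.d 0 1) hε) ?_).2 h0
      refine ShortComplex.isoMk e (Iso.refl _) (Iso.refl _) ?_ ?_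
      · show e.hom ≫ ε = (HomologicalComplex.mkHomFromSingle (j := 0) ε (fun k hk => by
          obtain rfl : 0 + 1 = k := hk
          exact hε)).f 0 ≫ 𝟙 _
        rw [HomologicalComplex.mkHomFromSingle_f, Category.comp_id]
      · exact (Category.id_comp _).trans (Category.comp_id _).symm
    · show Mono ((HomologicalComplex.mkHomFromSingle (j := 0) ε (fun k hk => by
          obtain rfl : 0 + 1 = k := hk
          exact hε)).f 0)
      rw [HomologicalComplex.mkHomFromSingle_f]
      infer_instance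
  · rw [quasiIsoAt_iff_exactAt]
    · rcases lt_or_gt_of_ne hi with h | h
      · exact HomologicalComplex.ExactAt.of_isZero (G.isZero_of_isStrictlyGE 0 i h)
      · exact hn i h
    · exact HomologicalComplex.exactAt_single_obj _ _ _ _ hi

variable {T : TopCat.{u}}

/-- A sequence of sheaves is exact when cycles are boundaries near every point. -/
theorem exact_of_near (S : ShortComplex (CohTop.Ab T))
    (h : ∀ (U : Opens T) (s : S.X₂.obj.obj (op U)), (S.g.hom.app (op U)).hom s = 0 → ∀ x ∈ U,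
      ∃ (V : Opens T) (hV : V ≤ U), x ∈ V ∧ ∃ t : S.X₁.obj.obj (op V),
        (S.f.hom.app (op V)).hom t = (S.X₂.obj.map (homOfLE hV).op).hom s) : S.Exact :=
  BigSiteLib.FppfDesc.exact_of_locally_boundary fun U s hs x hx => by
    obtain ⟨V, hV, hxV, t, ht⟩ := h U s hs x hx
    exact ⟨V, homOfLE hV, ⟨t, ht⟩, hxV⟩

theorem mono_of_near {F G : CohTop.Ab T} (φ : F ⟶ G)
    (h : ∀ (U : Opens T) (s : F.obj.obj (op U)), (φ.hom.app (op U)).hom s = 0 → ∀ x ∈ U,
      ∃ (V : Opens T) (hV : V ≤ U), x ∈ V ∧ (F.obj.map (homOfLE hV).op).hom s = 0) : Mono φ := by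
  have hw : (0 : (0 : CohTop.Ab T) ⟶ F) ≫ φ = 0 := zero_comp
  refine (ShortComplex.exact_iff_mono (ShortComplex.mk _ φ hw) rfl).1 (exact_of_near _ fun U s hs x hx => ?_)
  obtain ⟨V, hV, hxV, h0⟩ := h U s hs x hx
  exact ⟨V, hV, hxV, 0, (map_zero _).trans h0.symm⟩

theorem isRightAcyclic_of_isFlasque (F : CohTop.Ab T) [TopCat.Sheaf.IsFlasque F] :
    IsRightAcyclic (CTopNbd.gamma T) F := fun i hi => by
  obtain ⟨n, rfl⟩ := Nat.exists_eq_succ_of_ne_zero hi.ne'
  refine IsZero.of_iso ?_ ((CTopNbd.rightDerivedGammaIso T (n + 1)).app F)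
  exact @AddCommGrpCat.isZero_of_subsingleton _ (SiteBase.subsingleton_HU_of_isFlasque F ⊤ n)

/-- A flasque resolution computes cohomology by global sections. -/
theorem nonempty_gamma_homology_iso (F : CohTop.Ab T) (G : CochainComplex (CohTop.Ab T) ℤ) [G.IsStrictlyGE 0]
    (hfl : ∀ n : ℤ, 0 ≤ n → TopCat.Sheaf.IsFlasque (G.X n)) (ε : F ⟶ G.X 0) (hε : ε ≫ G.d 0 1 = 0)
    (hmono : Mono ε) (h0 : (ShortComplex.mk ε (G.d 0 1) hε).Exact) (hn : ∀ n : ℤ, 0 < n → G.ExactAt n) (q : ℕ) :
    Nonempty ((((CTopNbd.gamma T).mapHomologicalComplex (ComplexShape.up ℤ)).obj G).homology (q : ℤ) ≅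
      AddCommGrpCat.of (CohTop.H F q)) := by
  haveI : PreservesFiniteLimits (CTopNbd.gamma T) := comp_preservesFiniteLimits _ _
  have hac : ∀ n : ℤ, IsRightAcyclic (CTopNbd.gamma T) (G.X n) := fun n => by
    by_cases h : 0 ≤ n
    · haveI := hfl n h
      exact isRightAcyclic_of_isFlasque _
    · exact fun i _ => Functor.map_isZero _ (G.isZero_of_isStrictlyGE 0 n (by omega))
  obtain ⟨e⟩ := @nonempty_rightDerived_iso_of_resolution _ _ _ _ _ _ _ (CTopNbd.gamma T) _ _ F G _
    _ (quasiIso_fromSingle F G ε hε hmono h0 hn) hac q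
  exact ⟨e ≪≫ (CTopNbd.rightDerivedGammaIso T q).app F ≪≫
    (SiteBase.huTerminalEquiv (J := Opens.grothendieckTopology T) isTerminalTop F q).toAddCommGrpIso⟩

end Groth.Agent.TopDesc98
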